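import Mathlib
import Cfsg.Prelude.Def_Spor_Mathieu
import Cfsg.Agent.H22.SRG100

/-!
# Rank 3 groups of degree 100 with point stabiliser `M₂₂` (definitions and piece statements)

`G ≤ Perm Ω` is transitive on 100 points and the stabiliser of `a` has exactly the orbits `{a}`,
an orbit of 22 points (that of `b`) and an orbit of 77 points (that of `c`).  `Rel G a b x y` is the
orbital relation "`(x, y)` is a `G`-translate of `(a, b)`".  The orbital graph of `(a, b)` satisfies
`Cfsg.Agent.H22.SRG.Hyp` (valency 22, no triangles, `μ = 6`), hence is the Higman–Sims graph.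
-/

set_option autoImplicit false

namespace Cfsg.Agent.H33.R3

open Equiv

universe u

/-- the orbital relation of the pair `(a, b)` -/
def Rel {Ω : Type*} (G : Subgroup (Perm Ω)) (a b : Ω) (x y : Ω) : Prop :=
  ∃ g ∈ G, g a = x ∧ g b = y

/-- the hypotheses on the rank 3 action -/
structure Hyp3 {Ω : Type*} [Fintype Ω] (G : Subgroup (Perm Ω)) (a b c : Ω) : Prop where
  card : Fintype.card Ω = 100
  trans : ∀ x y : Ω, ∃ g ∈ G, g x = y
  nb : {y | Rel G a b a y}.ncard = 22
  nc : {y | Rel G a c a y}.ncard = 77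

theorem rel_map {Ω : Type*} {G : Subgroup (Perm Ω)} {a b x y : Ω} {h : Perm Ω} (hh : h ∈ G)
    (hr : Rel G a b x y) : Rel G a b (h x) (h y) := by
  obtain ⟨g, hg, rfl, rfl⟩ := hr
  exact ⟨h * g, mul_mem hh hg, rfl, rfl⟩

theorem rel_map_iff {Ω : Type*} {G : Subgroup (Perm Ω)} {a b x y : Ω} {h : Perm Ω} (hh : h ∈ G) :
    Rel G a b (h x) (h y) ↔ Rel G a b x y := by
  refine ⟨fun hr => ?_, rel_map hh⟩
  have := rel_map (inv_mem hh) hr
  simpa using this

/-- 3-transitivity in explicit form -/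
def Tr3 (M P : Type*) [Group M] [MulAction M P] : Prop :=
  ∀ p1 p2 p3 q1 q2 q3 : P, p1 ≠ p2 → p1 ≠ p3 → p2 ≠ p3 → q1 ≠ q2 → q1 ≠ q3 → q2 ≠ q3 →
    ∃ m : M, m • p1 = q1 ∧ m • p2 = q2 ∧ m • p3 = q3

/-! ### The piece statements -/

/-- PART: the two orbital relations partition the pairs of distinct points. -/
def StPart : Prop := ∀ {Ω : Type u} [Fintype Ω] (G : Subgroup (Perm Ω)) (a b c : Ω), Hyp3 G a b c →
  (∀ x, ¬ Rel G a b x x) ∧ (∀ x, ¬ Rel G a c x x) ∧
  (∀ x y, x ≠ y → Rel G a b x y ∨ Rel G a c x y) ∧ (∀ x y, Rel G a b x y → ¬ Rel G a c x y)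

/-- DEG: the valencies. -/
def StDeg : Prop := ∀ {Ω : Type u} [Fintype Ω] (G : Subgroup (Perm Ω)) (a b c : Ω), Hyp3 G a b c →
  ∀ x, {y | Rel G a b x y}.ncard = 22 ∧ {y | Rel G a c x y}.ncard = 77

/-- SYMM: the orbital of `(a, b)` is self-paired. -/
def StSymm : Prop := ∀ {Ω : Type u} [Fintype Ω] (G : Subgroup (Perm Ω)) (a b c : Ω), Hyp3 G a b c →
  ∀ x y, Rel G a b x y → Rel G a b y x

/-- T: in a 3-transitive group of degree 22 and order 443520, a subgroup of index 22 is a point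
stabiliser. -/
def StT : Prop := ∀ {M P : Type} [Group M] [Fintype P] [MulAction M P], Fintype.card P = 22 →
  Nat.card M = 443520 → Tr3 M P → ∀ K : Subgroup M, K.index = 22 →
    ∃ p : P, K = MulAction.stabilizer M p

/-- TWO: the stabiliser of `a` and `b` is transitive on the remaining 21 neighbours of `a`. -/
def StTwo : Prop := ∀ {Ω : Type u} [Fintype Ω] (G : Subgroup (Perm Ω)) (a b c : Ω), Hyp3 G a b c →
  ∀ {M P : Type} [Group M] [Fintype P] [MulAction M P], Fintype.card P = 22 →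
    Nat.card M = 443520 → Tr3 M P → Nonempty (MulAction.stabilizer (↥G) a ≃* M) →
    ∀ q q', Rel G a b a q → Rel G a b a q' → q ≠ b → q' ≠ b →
      ∃ g ∈ G, g a = a ∧ g b = b ∧ g q = q'

/-- TRI: the orbital graph has no triangles. -/
def StTri : Prop := ∀ {Ω : Type u} [Fintype Ω] (G : Subgroup (Perm Ω)) (a b c : Ω), Hyp3 G a b c →
  (∀ q q', Rel G a b a q → Rel G a b a q' → q ≠ b → q' ≠ b →
    ∃ g ∈ G, g a = a ∧ g b = b ∧ g q = q') →
  ∀ x y z, Rel G a b x y → Rel G a b x z → Rel G a b y z → False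

/-- MU: two non-adjacent points have exactly 6 common neighbours. -/
def StMu : Prop := ∀ {Ω : Type u} [Fintype Ω] (G : Subgroup (Perm Ω)) (a b c : Ω), Hyp3 G a b c →
  (∀ x y z, Rel G a b x y → Rel G a b x z → Rel G a b y z → False) →
  ∀ x y, x ≠ y → ¬ Rel G a b x y → {z | Rel G a b x z ∧ Rel G a b y z}.ncard = 6

/-- IDX2: a simple subgroup of index 2 is the only subgroup of its order. -/
def StIdx2 : Prop := ∀ {A : Type u} [Group A] [Finite A] (H K : Subgroup A), IsSimpleGroup ↥H →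
  2 < Nat.card ↥H → Nat.card ↥K = Nat.card ↥H → Nat.card A = 2 * Nat.card ↥H → H = K

/-- AUT: a graph with the parameters `(100, 22, 0, 6)` has exactly 88704000 automorphisms. -/
def StAut : Prop := ∀ {V : Type u} [Fintype V] (Γ : SimpleGraph V), Cfsg.Agent.H22.SRG.Hyp Γ →
  Nat.card (Γ ≃g Γ) = 88704000

/-! ### The 22 points of `M₂₂` -/

theorem m22_fix {g : Perm Cfsg.GolayPt} (hg : g ∈ Cfsg.Spor.M22) :
    g none = none ∧ g (some 0) = some 0 := by
  obtain ⟨⟨_, h1⟩, h2⟩ := hg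
  exact ⟨h1, h2⟩

/-- the 22 points moved by `M₂₂` -/
def P22 : Type := {p : Cfsg.GolayPt // p ≠ none ∧ p ≠ some 0}

instance : MulAction (↥Cfsg.Spor.M22) P22 where
  smul g p := ⟨(g : Perm Cfsg.GolayPt) p.1,
    fun h => p.2.1 ((g : Perm Cfsg.GolayPt).injective (h.trans (m22_fix g.2).1.symm)),
    fun h => p.2.2 ((g : Perm Cfsg.GolayPt).injective (h.trans (m22_fix g.2).2.symm))⟩
  one_smul p := Subtype.ext rfl
  mul_smul g h p := Subtype.ext rfl

theorem smul_P22_val (g : ↥Cfsg.Spor.M22) (p : P22) :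
    (g • p).1 = (g : Perm Cfsg.GolayPt) p.1 := rfl

instance : Fintype P22 := by unfold P22; infer_instance

theorem card_P22 : Fintype.card P22 = 22 := by
  unfold P22
  rfl

/-- M22TR: `M₂₂` is 3-transitive on its 22 points. -/
def StM22 : Prop := Tr3 (↥Cfsg.Spor.M22) P22

end Cfsg.Agent.H33.R3
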