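import Mathlib
import Cfsg.Prelude.Def_Spor_Conway
import Cfsg.Agent.H33.R3.Defs
import Cfsg.Agent.H22.SRG100d

/-!
# Rank 3 groups of degree 100 with point stabiliser `M₂₂`: assembly
-/

set_option autoImplicit false

namespace Cfsg.Agent.H33.R3

open Equiv Cfsg.Agent.H22.SRG

universe u

/-- the statement on the Higman–Sims group used by the assembly -/
def StHS : Prop := ∃ (V : Type) (_ : Fintype V) (Γ : SimpleGraph V), Hyp Γ ∧
  ∃ φ : ↥Cfsg.Spor.HS →* (Γ ≃g Γ), Function.Injective φ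

section graph

variable {Ω : Type u} [Fintype Ω] {G : Subgroup (Perm Ω)} {a b c : Ω}

/-- the orbital graph -/
def orbGraph (G : Subgroup (Perm Ω)) (a b : Ω) (hs : ∀ x y, Rel G a b x y → Rel G a b y x)
    (hi : ∀ x, ¬ Rel G a b x x) : SimpleGraph Ω where
  Adj := Rel G a b
  symm := ⟨hs⟩
  loopless := ⟨hi⟩

theorem orbGraph_hyp (h3 : Hyp3 G a b c) (hs : ∀ x y, Rel G a b x y → Rel G a b y x)
    (hi : ∀ x, ¬ Rel G a b x x) (hdeg : ∀ x, {y | Rel G a b x y}.ncard = 22)
    (htri : ∀ x y z, Rel G a b x y → Rel G a b x z → Rel G a b y z → False)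
    (hmu : ∀ x y, x ≠ y → ¬ Rel G a b x y → {z | Rel G a b x z ∧ Rel G a b y z}.ncard = 6) :
    Hyp (orbGraph G a b hs hi) := by
  refine ⟨h3.card, ?_, ?_, ?_⟩
  · intro v
    rw [← hdeg v, ← Set.ncard_coe_finset]
    congr 1
    ext y
    simp [orbGraph]
  · intro x y z h1 h2 h3'
    exact htri x y z h1 h2 h3'
  · intro x y hxy hn
    rw [← hmu x y hxy hn, ← Set.ncard_coe_finset]
    congr 1
    ext z
    simp [orbGraph]

/-- the group acts on the orbital graph -/
def toAut (G : Subgroup (Perm Ω)) (a b : Ω) (hs : ∀ x y, Rel G a b x y → Rel G a b y x)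
    (hi : ∀ x, ¬ Rel G a b x x) : ↥G →* (orbGraph G a b hs hi ≃g orbGraph G a b hs hi) where
  toFun g := { toEquiv := g.1, map_rel_iff' := rel_map_iff g.2 }
  map_one' := rfl
  map_mul' _ _ := rfl

theorem toAut_injective (hs : ∀ x y, Rel G a b x y → Rel G a b y x)
    (hi : ∀ x, ¬ Rel G a b x x) : Function.Injective (toAut G a b hs hi) := by
  intro g g' h
  apply Subtype.ext
  ext x
  have := congrArg (fun f : orbGraph G a b hs hi ≃g orbGraph G a b hs hi => f x) h
  exact this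

end graph

/-- conjugation of graph automorphisms by a graph isomorphism -/
def conjIso {V W : Type*} {Γ : SimpleGraph V} {Δ : SimpleGraph W} (ψ : Γ ≃g Δ) :
    (Γ ≃g Γ) ≃* (Δ ≃g Δ) where
  toFun f := (ψ.symm.trans f).trans ψ
  invFun f := (ψ.trans f).trans ψ.symm
  left_inv f := by ext x; simp
  right_inv f := by ext x; simp
  map_mul' f g := by ext x; simp

theorem orbit_eq_rel {Ω : Type*} (G : Subgroup (Perm Ω)) (a b : Ω) :
    MulAction.orbit (MulAction.stabilizer G a) b = {y | Rel G a b a y} := by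
  ext y
  constructor
  · rintro ⟨s, rfl⟩
    exact ⟨s.1.1, s.1.2, s.2, rfl⟩
  · rintro ⟨g, hg, h1, h2⟩
    exact ⟨⟨⟨g, hg⟩, h1⟩, h2⟩

theorem main (hPart : StPart.{u}) (hDeg : StDeg.{u}) (hSymm : StSymm.{u}) (hTwo : StTwo.{u})
    (hTri : StTri.{u}) (hMu : StMu.{u}) (hIdx : StIdx2.{u}) (hAut : StAut.{u}) (hM22 : StM22)
    (hcM22 : Nat.card ↥Cfsg.Spor.M22 = 443520) (hHS : StHS)
    (hHSs : IsSimpleGroup ↥Cfsg.Spor.HS) (hHSc : Nat.card ↥Cfsg.Spor.HS = 44352000)
    {Ω : Type u} [Fintype Ω] [DecidableEq Ω] (hΩ : Fintype.card Ω = 100)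
    (G : Subgroup (Equiv.Perm Ω)) [MulAction.IsPretransitive G Ω] (a : Ω)
    (e : MulAction.stabilizer G a ≃* Cfsg.Spor.M22) (b c : Ω)
    (hb : (MulAction.orbit (MulAction.stabilizer G a) b).ncard = 22)
    (hc : (MulAction.orbit (MulAction.stabilizer G a) c).ncard = 77) : Cfsg.Spor.IsoHS G := by
  have h3 : Hyp3 G a b c := by
    refine ⟨hΩ, ?_, ?_, ?_⟩
    · intro x y
      obtain ⟨g, hg⟩ := MulAction.exists_smul_eq G x y
      exact ⟨g.1, g.2, hg⟩
    · rw [← orbit_eq_rel]; exact hb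
    · rw [← orbit_eq_rel]; exact hc
  obtain ⟨hib, -, -, -⟩ := hPart G a b c h3
  have hs := hSymm G a b c h3
  have hdeg := fun x => (hDeg G a b c h3 x).1
  have htwo := hTwo G a b c h3 card_P22 hcM22 hM22 ⟨e⟩
  have htri := hTri G a b c h3 htwo
  have hmu := hMu G a b c h3 htri
  have hyp := orbGraph_hyp h3 hs hib hdeg htri hmu
  have hA := hAut _ hyp
  -- the order of `G`
  have hG : Nat.card ↥G = 44352000 := by
    have h1 : Nat.card ↥G = Nat.card (MulAction.orbit (↥G) a) *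
        Nat.card ↥(MulAction.stabilizer (↥G) a) := by
      rw [← Nat.card_prod]
      exact Nat.card_congr (MulAction.orbitProdStabilizerEquivGroup (↥G) a).symm
    have h2 : MulAction.orbit (↥G) a = Set.univ := MulAction.orbit_eq_univ (↥G) a
    have h4 : Nat.card (MulAction.orbit (↥G) a) = 100 := by
      rw [Nat.card_congr (Equiv.setCongr h2), Nat.card_congr (Equiv.Set.univ Ω),
        Nat.card_eq_fintype_card, hΩ]
    rw [h4, Nat.card_congr e.toEquiv, hcM22] at h1
    rw [h1]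
  obtain ⟨V, _, Γ', hyp', φ, hφ⟩ := hHS
  obtain ⟨ψ⟩ := hyp_unique hyp' hyp
  let φ' : ↥Cfsg.Spor.HS →* (orbGraph G a b hs hib ≃g orbGraph G a b hs hib) :=
    (conjIso ψ).toMonoidHom.comp φ
  have hφ' : Function.Injective φ' := (conjIso ψ).injective.comp hφ
  have hτ := toAut_injective (G := G) (a := a) (b := b) hs hib
  haveI : Finite (orbGraph G a b hs hib ≃g orbGraph G a b hs hib) :=
    Nat.finite_of_card_ne_zero (by rw [hA]; norm_num)
  have e1 : ↥Cfsg.Spor.HS ≃* ↥φ'.range := MonoidHom.ofInjective hφ'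
  have e2 : ↥G ≃* ↥(toAut G a b hs hib).range := MonoidHom.ofInjective hτ
  have hsimple : IsSimpleGroup ↥φ'.range := by
    haveI : Nontrivial ↥φ'.range := e1.symm.toEquiv.nontrivial
    exact IsSimpleGroup.isSimpleGroup_of_surjective e1.toMonoidHom e1.surjective
  have hc1 : Nat.card ↥φ'.range = 44352000 := by rw [← Nat.card_congr e1.toEquiv]; exact hHSc
  have hc2 : Nat.card ↥(toAut G a b hs hib).range = 44352000 := by
    rw [← Nat.card_congr e2.toEquiv]; exact hG
  have heq := hIdx φ'.range (toAut G a b hs hib).range hsimple (by rw [hc1]; norm_num)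
    (by rw [hc1, hc2]) (by rw [hA, hc1])
  exact ⟨e2.trans ((MulEquiv.subgroupCongr heq.symm).trans e1.symm)⟩

end Cfsg.Agent.H33.R3
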