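import Mathlib
import Cfsg.Prelude.Def_Spor_Conway
import Cfsg.Agent.H33.LHSSimple
import Cfsg.Agent.H33.R3.Main

/-!
# The Higman–Sims group of the Prelude acts on a graph with the parameters `(100, 22, 0, 6)`

The graph: the 100 minimal vectors of the Leech lattice with inner products `24` and `-24`
against the standard pair `a48`, `w48`, two of them adjacent when their inner product is `8`.
-/

set_option autoImplicit false
set_option maxRecDepth 100000

namespace Cfsg.Agent.H33.R3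

open Cfsg Cfsg.Agent.H9 Cfsg.Agent.H93 Cfsg.Agent.H33 Cfsg.Agent.H22.SRG

/-! ### The vectors of the Prelude -/

theorem vecV_sq : sqNorm Spor.vecV = 48 := by decide +kernel

theorem vecU'_sq : sqNorm Spor.vecU' = 32 := by decide +kernel

theorem vecVU'_dot : dotInt Spor.vecV Spor.vecU' = -16 := by decide +kernel

/-- the second vector of the pair of inner product `-32` -/
def wP : leechLattice := -(Spor.leechV + Spor.leechU')

theorem leechV_sq : sqNorm (Spor.leechV : GolayPt → ℤ) = 48 := vecV_sq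

theorem wP_sq : sqNorm (wP : GolayPt → ℤ) = 48 := by
  show sqNorm (-(Spor.vecV + Spor.vecU')) = 48
  rw [sqNorm_neg, sqNorm_add, vecV_sq, vecU'_sq, vecVU'_dot]; norm_num

theorem leechV_wP_dot : dotInt (Spor.leechV : GolayPt → ℤ) (wP : GolayPt → ℤ) = -32 := by
  show dotInt Spor.vecV (-(Spor.vecV + Spor.vecU')) = -32
  rw [lc_dot_neg_right, lc_dot_add_right, lc_dot_self, vecV_sq, vecVU'_dot]; norm_num

theorem mem_HS {g : Equiv.Perm leechLattice} : g ∈ Spor.HS ↔
    g ∈ Co0 ∧ g Spor.leechV = Spor.leechV ∧ g Spor.leechU' = Spor.leechU' := by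
  constructor
  · rintro ⟨⟨h1, h2⟩, h3⟩; exact ⟨h1, h2, h3⟩
  · rintro ⟨h1, h2, h3⟩; exact ⟨⟨h1, h2⟩, h3⟩

/-- the group of the Prelude as a joint stabiliser in the automorphism group of the lattice -/
noncomputable def hsEquiv : ↥Spor.HS ≃*
    ↥(MulAction.stabilizer ↥Co0 Spor.leechV ⊓ MulAction.stabilizer ↥Co0 Spor.leechU') where
  toFun g := ⟨⟨g.1, (mem_HS.mp g.2).1⟩, Subgroup.mem_inf.mpr
    ⟨MulAction.mem_stabilizer_iff.mpr (mem_HS.mp g.2).2.1,
      MulAction.mem_stabilizer_iff.mpr (mem_HS.mp g.2).2.2⟩⟩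
  invFun g := ⟨g.1.1, mem_HS.mpr ⟨g.1.2, MulAction.mem_stabilizer_iff.mp (Subgroup.mem_inf.mp g.2).1,
    MulAction.mem_stabilizer_iff.mp (Subgroup.mem_inf.mp g.2).2⟩⟩
  left_inv _ := rfl
  right_inv _ := rfl
  map_mul' _ _ := rfl

theorem hs_stab_eq : MulAction.stabilizer ↥Co0 Spor.leechV ⊓ MulAction.stabilizer ↥Co0 Spor.leechU'
    = MulAction.stabilizer ↥Co0 Spor.leechV ⊓ MulAction.stabilizer ↥Co0 wP :=
  (stab_neg_add Spor.leechV Spor.leechU').symm

theorem hs_simple : IsSimpleGroup ↥Spor.HS := by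
  have h := (hs_isHS Spor.leechV wP leechV_sq wP_sq leechV_wP_dot).1
  rw [← hs_stab_eq] at h
  exact simple_of_mulEquiv hsEquiv h

theorem hs_card : Nat.card ↥Spor.HS = 44352000 := by
  have h := (hs_isHS Spor.leechV wP leechV_sq wP_sq leechV_wP_dot).2
  rw [← hs_stab_eq] at h
  rw [Nat.card_congr hsEquiv.toEquiv]; exact h

/-! ### Tables -/

open Classical in
/-- counting in a set of lattice vectors listed without repetition by a table -/
theorem table_count {X : Set leechLattice} {E N : ℕ} (hfin : X.Finite)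
    (htab : ∀ x ∈ X, ∃ j < N, (x : GolayPt → ℤ) = vec (fldW 192 E j)) (hc : X.ncard = N)
    (q : ℕ → Bool) (P : leechLattice → Prop)
    (hP : ∀ x ∈ X, ∀ j < N, (x : GolayPt → ℤ) = vec (fldW 192 E j) → (P x ↔ q j = true)) :
    {x | x ∈ X ∧ P x}.ncard = countB q N := by
  let f : leechLattice → ℕ := fun x => if h : x ∈ X then Classical.choose (htab x h) else 0
  have hf : ∀ x (_ : x ∈ X), f x < N ∧ (x : GolayPt → ℤ) = vec (fldW 192 E (f x)) := by
    intro x h
    have := Classical.choose_spec (htab x h)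
    simp only [f, dif_pos h]
    exact this
  have hinj : Set.InjOn f X := by
    intro x hx y hy hxy
    apply Subtype.ext
    rw [(hf x hx).2, (hf y hy).2, hxy]
  have hmem : ∀ x, x ∈ hfin.toFinset ↔ x ∈ X := fun x => hfin.mem_toFinset
  have himg : hfin.toFinset.image f = Finset.range N := by
    apply Finset.eq_of_subset_of_card_le
    · intro j hj
      obtain ⟨x, hx, rfl⟩ := Finset.mem_image.mp hj
      exact Finset.mem_range.mpr (hf x ((hmem x).mp hx)).1
    · rw [Finset.card_range, Finset.card_image_of_injOn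
        (fun x hx y hy h => hinj ((hmem x).mp hx) ((hmem y).mp hy) h),
        ← Set.ncard_eq_toFinset_card X hfin, hc]
  have hset : {x | x ∈ X ∧ P x} = ↑(hfin.toFinset.filter (fun x => q (f x) = true)) := by
    ext x
    simp only [Set.mem_setOf_eq, Finset.coe_filter, hmem]
    constructor
    · rintro ⟨hx, hp⟩
      exact ⟨hx, (hP x hx (f x) (hf x hx).1 (hf x hx).2).mp hp⟩
    · rintro ⟨hx, hq⟩
      exact ⟨hx, (hP x hx (f x) (hf x hx).1 (hf x hx).2).mpr hq⟩
  rw [hset, Set.ncard_coe_finset, countB_eq, ← himg, Finset.filter_image,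
    Finset.card_image_of_injOn]
  intro x hx y hy h
  exact hinj ((hmem x).mp (Finset.mem_of_mem_filter x (Finset.mem_coe.mp hx)))
    ((hmem y).mp (Finset.mem_of_mem_filter y (Finset.mem_coe.mp hy))) h

/-! ### The graph -/

/-- the 100 vectors -/
abbrev X100 : Set leechLattice := XD [(a48, 24), (w48, -24)]

noncomputable instance fintypeX100 : Fintype ↥X100 := (XD_finite _).fintype

theorem card_X100 : Fintype.card ↥X100 = 100 := by
  rw [← Nat.card_eq_fintype_card, Nat.card_coe_set_eq]; exact L100_level.2.1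

/-- the graph: inner product 8 -/
def hsGraph : SimpleGraph ↥X100 where
  Adj x y := dotInt (x.1 : GolayPt → ℤ) (y.1 : GolayPt → ℤ) = 8
  symm := ⟨fun x y h => by rw [lc_dot_comm]; exact h⟩
  loopless := ⟨fun x h => by
    have h2 : sqNorm (x.1 : GolayPt → ℤ) = 32 := x.2.1
    rw [lc_dot_self, h2] at h
    norm_num at h⟩

theorem hsGraph_adj (x y : ↥X100) :
    hsGraph.Adj x y ↔ dotInt (x.1 : GolayPt → ℤ) (y.1 : GolayPt → ℤ) = 8 := Iff.rfl

theorem card_filter_X (P : leechLattice → Prop) [DecidablePred fun y : ↥X100 => P y.1] :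
    (Finset.univ.filter (fun y : ↥X100 => P y.1)).card = {y | y ∈ X100 ∧ P y}.ncard := by
  rw [← Set.ncard_coe_finset, ← Set.ncard_image_of_injective _ Subtype.val_injective]
  congr 1
  ext y
  simp only [Finset.coe_filter, Finset.mem_univ, true_and, Set.mem_image, Set.mem_setOf_eq,
    Subtype.exists, exists_and_right, exists_eq_right]
  constructor
  · rintro ⟨h1, h2⟩; exact ⟨h1, h2⟩
  · rintro ⟨h1, h2⟩; exact ⟨h1, h2⟩

theorem XD_four (u v w t : leechLattice) (d e f k : ℤ) (x : leechLattice) :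
    x ∈ XD [(u, d), (v, e), (w, f), (t, k)] ↔ sqNorm (x : GolayPt → ℤ) = 32 ∧
      dotInt (u : GolayPt → ℤ) (x : GolayPt → ℤ) = d ∧
      dotInt (v : GolayPt → ℤ) (x : GolayPt → ℤ) = e ∧
      dotInt (w : GolayPt → ℤ) (x : GolayPt → ℤ) = f ∧
      dotInt (t : GolayPt → ℤ) (x : GolayPt → ℤ) = k := by
  unfold XD
  simp only [Set.mem_setOf_eq, List.forall_mem_cons, List.not_mem_nil, false_imp_iff,
    implies_true, and_true]

theorem fix_a48 {g : Equiv.Perm leechLattice} (hf : FixS g [(a48, 24), (w48, -24)]) :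
    g a48 = a48 := hf (a48, 24) (by simp)

theorem fix_w48 {g : Equiv.Perm leechLattice} (hf : FixS g [(a48, 24), (w48, -24)]) :
    g w48 = w48 := hf (w48, -24) (by simp)

/-! ### The valency -/

theorem deg_std (x : leechLattice) (hx : x ∈ X100) :
    (XD [(a48, 24), (w48, -24), (x, 8)]).ncard = 22 := by
  obtain ⟨g, hg, hf, e⟩ := L100_level.1 x hx
  have h : actC g [(a48, 24), (w48, -24), (x100, 8)] = [(a48, 24), (w48, -24), (x, 8)] := by
    show [(g a48, (24 : ℤ)), (g w48, (-24 : ℤ)), (g x100, (8 : ℤ))] = _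
    rw [fix_a48 hf, fix_w48 hf, e]
  rw [← h, XD_ncard_act hg]
  exact L22_level.2

theorem hs_deg (x : ↥X100) : (nb hsGraph x).card = 22 := by
  have h : nb hsGraph x = Finset.univ.filter
      (fun y : ↥X100 => dotInt (x.1 : GolayPt → ℤ) (y.1 : GolayPt → ℤ) = 8) := by
    ext y
    simp only [mem_nb, hsGraph_adj, Finset.mem_filter, Finset.mem_univ, true_and]
  rw [h, card_filter_X (fun y => dotInt (x.1 : GolayPt → ℤ) (y : GolayPt → ℤ) = 8)]
  have e : {y | y ∈ X100 ∧ dotInt (x.1 : GolayPt → ℤ) (y : GolayPt → ℤ) = 8}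
      = XD [(a48, 24), (w48, -24), (x.1, 8)] := by
    ext y
    rw [XD_three, Set.mem_setOf_eq, XD_two]
    tauto
  rw [e]
  exact deg_std x.1 x.2

/-! ### No triangles -/

theorem tri_chk : allB (fun j => allB (fun k =>
    !(Nat.beq (dotV L100W (fldW 192 L100E j)) 393224 &&
      (Nat.beq (dotV L100W (fldW 192 L100E k)) 393224 &&
        Nat.beq (dotV (fldW 192 L100E j) (fldW 192 L100E k)) 393224))) 100) 100 = true := by
  decide +kernel

theorem tri_std (y z : leechLattice) (hy : y ∈ X100) (hz : z ∈ X100)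
    (h1 : dotInt (x100 : GolayPt → ℤ) (y : GolayPt → ℤ) = 8)
    (h2 : dotInt (x100 : GolayPt → ℤ) (z : GolayPt → ℤ) = 8)
    (h3 : dotInt (y : GolayPt → ℤ) (z : GolayPt → ℤ) = 8) : False := by
  obtain ⟨j, hj, ej⟩ := L100_level.2.2 y hy
  obtain ⟨k, hk, ek⟩ := L100_level.2.2 z hz
  have c0 : allB (fun k => !(Nat.beq (dotV L100W (fldW 192 L100E j)) 393224 &&
      (Nat.beq (dotV L100W (fldW 192 L100E k)) 393224 &&
        Nat.beq (dotV (fldW 192 L100E j) (fldW 192 L100E k)) 393224))) 100 = true :=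
    (allB_iff _ _).mp tri_chk j hj
  have c : (!(Nat.beq (dotV L100W (fldW 192 L100E j)) 393224 &&
      (Nat.beq (dotV L100W (fldW 192 L100E k)) 393224 &&
        Nat.beq (dotV (fldW 192 L100E j) (fldW 192 L100E k)) 393224))) = true :=
    (allB_iff _ _).mp c0 k hk
  have d1 : dotInt (vec L100W) (y : GolayPt → ℤ) = 8 := h1
  rw [ej, dotInt_vec] at d1
  have d2 : dotInt (vec L100W) (z : GolayPt → ℤ) = 8 := h2
  rw [ek, dotInt_vec] at d2
  rw [ej, ek, dotInt_vec] at h3
  have e1 : dotV L100W (fldW 192 L100E j) = 393224 := by omega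
  have e2 : dotV L100W (fldW 192 L100E k) = 393224 := by omega
  have e3 : dotV (fldW 192 L100E j) (fldW 192 L100E k) = 393224 := by omega
  rw [e1, e2, e3] at c
  exact absurd c (by decide)

theorem hs_tri (x y z : ↥X100) (h1 : hsGraph.Adj x y) (h2 : hsGraph.Adj x z)
    (h3 : hsGraph.Adj y z) : False := by
  obtain ⟨g, hg, hf, e⟩ := L100_level.1 x.1 x.2
  have hgi := inv_mem hg
  have hfi := FixS_inv hf
  have ex : g⁻¹ x.1 = x100 := by rw [Equiv.Perm.inv_eq_iff_eq]; exact e.symm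
  refine tri_std (g⁻¹ y.1) (g⁻¹ z.1) (XD_inv hgi hfi y.2) (XD_inv hgi hfi z.2) ?_ ?_ ?_
  · rw [← ex, co0_dot hgi]; exact h1
  · rw [← ex, co0_dot hgi]; exact h2
  · rw [co0_dot hgi]; exact h3

/-! ### Common neighbours -/

/-- the root of the orbit of length 77 -/
def z77 : leechLattice := ⟨vec L77W, L77W_mem⟩

theorem mu_chk : countB (fun j => Nat.beq (dotV L100W (fldW 192 L100E j)) 393224 &&
    Nat.beq (dotV L77W (fldW 192 L100E j)) 393224) 100 = 6 := by decide +kernel

theorem mu_std : (XD [(a48, 24), (w48, -24), (x100, 8), (z77, 8)]).ncard = 6 := by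
  have e : XD [(a48, 24), (w48, -24), (x100, 8), (z77, 8)] = {z | z ∈ X100 ∧
      (dotInt (x100 : GolayPt → ℤ) (z : GolayPt → ℤ) = 8 ∧
        dotInt (z77 : GolayPt → ℤ) (z : GolayPt → ℤ) = 8)} := by
    ext z
    rw [XD_four, Set.mem_setOf_eq, XD_two]
    tauto
  rw [e, table_count (XD_finite _) L100_level.2.2 L100_level.2.1
    (fun j => Nat.beq (dotV L100W (fldW 192 L100E j)) 393224 &&
      Nat.beq (dotV L77W (fldW 192 L100E j)) 393224)
    (fun z => dotInt (x100 : GolayPt → ℤ) (z : GolayPt → ℤ) = 8 ∧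
        dotInt (z77 : GolayPt → ℤ) (z : GolayPt → ℤ) = 8) ?_]
  · exact mu_chk
  · intro z hz j hj ej
    show dotInt (vec L100W) (z : GolayPt → ℤ) = 8 ∧ dotInt (vec L77W) (z : GolayPt → ℤ) = 8 ↔ _
    rw [ej, dotInt_vec, dotInt_vec, Bool.and_eq_true]
    constructor
    · rintro ⟨h1, h2⟩
      have e1 : dotV L100W (fldW 192 L100E j) = 393224 := by omega
      have e2 : dotV L77W (fldW 192 L100E j) = 393224 := by omega
      rw [e1, e2]
      exact ⟨by decide, by decide⟩
    · rintro ⟨h1, h2⟩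
      rw [Nat.eq_of_beq_eq_true h1, Nat.eq_of_beq_eq_true h2]
      norm_num

theorem mu_gen (x y : leechLattice) (hx : x ∈ X100) (hy : y ∈ X100) (hne : x ≠ y)
    (hn : dotInt (x : GolayPt → ℤ) (y : GolayPt → ℤ) ≠ 8) :
    (XD [(a48, 24), (w48, -24), (x, 8), (y, 8)]).ncard = 6 := by
  obtain ⟨g, hg, hf, e⟩ := L100_level.1 x hx
  have hgi := inv_mem hg
  have hfi := FixS_inv hf
  have ex : g⁻¹ x = x100 := by rw [Equiv.Perm.inv_eq_iff_eq]; exact e.symm
  have hy' : g⁻¹ y ∈ X100 := XD_inv hgi hfi hy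
  have hd : dotInt (x100 : GolayPt → ℤ) ((g⁻¹ y : leechLattice) : GolayPt → ℤ)
      = dotInt (x : GolayPt → ℤ) (y : GolayPt → ℤ) := by rw [← ex, co0_dot hgi]
  have h16 : dotInt (x100 : GolayPt → ℤ) ((g⁻¹ y : leechLattice) : GolayPt → ℤ) = 16 := by
    rcases L100_vals _ hy' with h | h | h
    · exfalso
      have h5 : g⁻¹ y = x100 := eq_of_dot32 x100_mem.1 hy'.1 h
      apply hne
      rw [← e, ← h5]
      simp
    · rw [hd] at h
      exact absurd h hn
    · exact h
  have hy2 := (XD_two _ _ _ _ _).mp hy'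
  have hy3 : g⁻¹ y ∈ XD [(a48, 24), (w48, -24), (x100, 16)] :=
    (XD_three _ _ _ _ _ _ _).mpr ⟨hy2.1, hy2.2.1, hy2.2.2, h16⟩
  obtain ⟨g2, hg2, hf2, e2⟩ := L77_level.1 _ hy3
  have f1 : g2 a48 = a48 := hf2 (a48, 24) (by simp)
  have f2 : g2 w48 = w48 := hf2 (w48, -24) (by simp)
  have f3 : g2 x100 = x100 := hf2 (x100, 16) (by simp)
  have f4 : g2 z77 = g⁻¹ y := e2
  have hk : g * g2 ∈ Co0 := mul_mem hg hg2
  have h : actC (g * g2) [(a48, 24), (w48, -24), (x100, 8), (z77, 8)]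
      = [(a48, 24), (w48, -24), (x, 8), (y, 8)] := by
    show [((g * g2) a48, (24 : ℤ)), ((g * g2) w48, (-24 : ℤ)), ((g * g2) x100, (8 : ℤ)),
      ((g * g2) z77, (8 : ℤ))] = _
    simp only [Equiv.Perm.mul_apply]
    rw [f1, f2, f3, f4, fix_a48 hf, fix_w48 hf, e]
    simp
  rw [← h, XD_ncard_act hk]
  exact mu_std

theorem hs_mu (x y : ↥X100) (hne : x ≠ y) (hn : ¬ hsGraph.Adj x y) :
    (nb hsGraph x ∩ nb hsGraph y).card = 6 := by
  have h : nb hsGraph x ∩ nb hsGraph y = Finset.univ.filter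
      (fun z : ↥X100 => dotInt (x.1 : GolayPt → ℤ) (z.1 : GolayPt → ℤ) = 8 ∧
        dotInt (y.1 : GolayPt → ℤ) (z.1 : GolayPt → ℤ) = 8) := by
    ext z
    simp only [Finset.mem_inter, mem_nb, hsGraph_adj, Finset.mem_filter, Finset.mem_univ,
      true_and]
  rw [h, card_filter_X (fun z => dotInt (x.1 : GolayPt → ℤ) (z : GolayPt → ℤ) = 8 ∧
        dotInt (y.1 : GolayPt → ℤ) (z : GolayPt → ℤ) = 8)]
  have e : {z | z ∈ X100 ∧ (dotInt (x.1 : GolayPt → ℤ) (z : GolayPt → ℤ) = 8 ∧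
        dotInt (y.1 : GolayPt → ℤ) (z : GolayPt → ℤ) = 8)}
      = XD [(a48, 24), (w48, -24), (x.1, 8), (y.1, 8)] := by
    ext z
    rw [XD_four, Set.mem_setOf_eq, XD_two]
    tauto
  rw [e]
  exact mu_gen x.1 y.1 x.2 y.2 (fun h => hne (Subtype.ext h)) hn

theorem hsGraph_hyp : Hyp hsGraph :=
  ⟨card_X100, hs_deg, hs_tri, fun x y hne hn => by convert hs_mu x y hne hn⟩

end Cfsg.Agent.H33.R3
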