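import Mathlib
import Cfsg.Agent.H33.R3.HSa

/-!
# The Higman–Sims group of the Prelude acts faithfully on the graph of the 100 vectors
-/

set_option autoImplicit false
set_option maxRecDepth 100000

namespace Cfsg.Agent.H33.R3

open Cfsg Cfsg.Agent.H9 Cfsg.Agent.H93 Cfsg.Agent.H33 Cfsg.Agent.H22.SRG

/-- the joint stabiliser of the standard pair acts on the graph -/
noncomputable def psi :
    ↥(MulAction.stabilizer ↥Co0 a48 ⊓ MulAction.stabilizer ↥Co0 w48) →* (hsGraph ≃g hsGraph) where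
  toFun k :=
    { toFun := fun x => ⟨(k.1 : Equiv.Perm leechLattice) x.1,
        XD_inv k.1.2 ((mem_stab_pair a48 w48 24 (-24) k.1).mp k.2) x.2⟩
      invFun := fun x => ⟨(k.1 : Equiv.Perm leechLattice)⁻¹ x.1,
        XD_inv (inv_mem k.1.2) (FixS_inv ((mem_stab_pair a48 w48 24 (-24) k.1).mp k.2)) x.2⟩
      left_inv := fun x => Subtype.ext (by simp)
      right_inv := fun x => Subtype.ext (by simp)
      map_rel_iff' := by
        intro x y
        show dotInt ((((k.1 : Equiv.Perm leechLattice) x.1 : leechLattice)) : GolayPt → ℤ)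
          ((((k.1 : Equiv.Perm leechLattice) y.1 : leechLattice)) : GolayPt → ℤ) = 8 ↔
          dotInt (x.1 : GolayPt → ℤ) (y.1 : GolayPt → ℤ) = 8
        rw [co0_dot k.1.2] }
  map_one' := by ext x; rfl
  map_mul' k k' := by ext x; rfl

theorem psi_apply (k : ↥(MulAction.stabilizer ↥Co0 a48 ⊓ MulAction.stabilizer ↥Co0 w48))
    (x : ↥X100) : ((psi k) x).1 = (k.1 : Equiv.Perm leechLattice) x.1 := rfl

theorem psi_injective : Function.Injective psi := by
  haveI := hs_std_simple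
  rcases (MonoidHom.normal_ker psi).eq_bot_or_eq_top with h | h
  · exact (MonoidHom.ker_eq_bot_iff psi).mp h
  · exfalso
    obtain ⟨x, hx, hne⟩ := Set.exists_ne_of_one_lt_ncard
      (by rw [L100_level.2.1]; norm_num : 1 < X100.ncard) x100
    obtain ⟨g, hg, hf, e⟩ := L100_level.1 x hx
    have hk : (⟨⟨g, hg⟩, (mem_stab_pair a48 w48 24 (-24) ⟨g, hg⟩).mpr hf⟩ :
        ↥(MulAction.stabilizer ↥Co0 a48 ⊓ MulAction.stabilizer ↥Co0 w48)) ∈ psi.ker := by
      rw [h]; trivial
    have h1 := MonoidHom.mem_ker.mp hk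
    have h2 := congrArg (fun f : hsGraph ≃g hsGraph => (f ⟨x100, x100_mem⟩).1) h1
    have h3 : g x100 = x100 := h2
    exact hne (e.symm.trans h3)

theorem stHS : StHS := by
  refine ⟨↥X100, fintypeX100, hsGraph, hsGraph_hyp, ?_⟩
  obtain ⟨h, hh, he⟩ := hs_pair_to_std Spor.leechV wP leechV_sq wP_sq leechV_wP_dot
  have hev : h Spor.leechV = a48 := by
    have : [(h Spor.leechV, (24 : ℤ)), (h wP, (-24 : ℤ))] = [(a48, 24), (w48, -24)] := he
    simp only [List.cons.injEq, Prod.mk.injEq, and_true] at this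
    exact this.1
  have hew : h wP = w48 := by
    have : [(h Spor.leechV, (24 : ℤ)), (h wP, (-24 : ℤ))] = [(a48, 24), (w48, -24)] := he
    simp only [List.cons.injEq, Prod.mk.injEq, and_true] at this
    exact this.2
  have hconj : ∀ g : ↥Co0,
      g ∈ MulAction.stabilizer ↥Co0 Spor.leechV ⊓ MulAction.stabilizer ↥Co0 wP ↔
      (⟨h, hh⟩ : ↥Co0) * g * (⟨h, hh⟩ : ↥Co0)⁻¹ ∈
        MulAction.stabilizer ↥Co0 a48 ⊓ MulAction.stabilizer ↥Co0 w48 := by
    intro g
    simp only [Subgroup.mem_inf, MulAction.mem_stabilizer_iff]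
    have key : ∀ (z z' : leechLattice), h z = z' →
        (((⟨h, hh⟩ : ↥Co0) * g * (⟨h, hh⟩ : ↥Co0)⁻¹) • z' = z' ↔ g • z = z) := by
      intro z z' e
      have e' : h⁻¹ z' = z := by rw [Equiv.Perm.inv_eq_iff_eq]; exact e.symm
      show h ((g : Equiv.Perm leechLattice) (h⁻¹ z')) = z' ↔ (g : Equiv.Perm leechLattice) z = z
      rw [e', ← e]
      exact h.injective.eq_iff
    rw [key Spor.leechV a48 hev, key wP w48 hew]
  let e1 := conjEquiv _ _ (⟨h, hh⟩ : ↥Co0) hconj
  let e2 := (hsEquiv.trans (MulEquiv.subgroupCongr hs_stab_eq)).trans e1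
  exact ⟨psi.comp e2.toMonoidHom, psi_injective.comp e2.injective⟩

end Cfsg.Agent.H33.R3
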